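import Mathlib
import Groth.Agent.ConstTorsTriv.Basic
import Groth.Agent.Unibranch.Open
import Groth.Agent.EtaleSplit.GeomPoint

/-!
# Torsors under torsion-free constant groups over locally irreducible schemes
-/

set_option autoImplicit false
set_option linter.style.haveILetI false

universe u

open CategoryTheory CategoryTheory.Limits MonoidalCategory CartesianMonoidalCategory MonObj GrpObj
  AlgebraicGeometry TopologicalSpace

noncomputable section

namespace Groth.Agent.UnibrTorsor

/-- A field-valued point at the image of a rational point of an etale separated scheme factors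
through the rational point. -/
theorem eq_comp_of_image_eq {A B C D : Scheme.{u}} (q : A ⟶ B) [Etale q] [IsSeparated q]
    {i : C ⟶ B} [IsPreimmersion i] (τ : C ⟶ A) (hτ : τ ≫ q = i) (g : D ⟶ A) (c : D ⟶ C)
    (hc : c ≫ i = g ≫ q) (him : ∀ t t', g t = τ t') : g = c ≫ τ := by
  let τ' : C ⟶ pullback q i := pullback.lift τ (𝟙 C) (by rw [hτ, Category.id_comp])
  haveI := (Groth.Agent.ConstTorsTriv.section_clopen (pullback.snd q i) τ'
    (pullback.lift_snd _ _ _)).1
  let r : D ⟶ pullback q i := pullback.lift g c hc.symm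
  have hr : Set.range r ⊆ Set.range τ' := by
    rintro _ ⟨t, rfl⟩
    refine ⟨c t, (pullback.fst q i).isEmbedding.injective ?_⟩
    rw [← Scheme.Hom.comp_apply, ← Scheme.Hom.comp_apply (r), pullback.lift_fst, pullback.lift_fst]
    exact (him t (c t)).symm
  have hl : IsOpenImmersion.lift τ' r hr = c := by
    rw [← Category.comp_id (IsOpenImmersion.lift τ' r hr), ← pullback.lift_snd τ (𝟙 C) (by rw [hτ, Category.id_comp] :
      τ ≫ q = 𝟙 C ≫ i), ← Category.assoc, IsOpenImmersion.lift_fac, pullback.lift_snd]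
  have := IsOpenImmersion.lift_fac τ' r hr
  rw [hl] at this
  have := congrArg (· ≫ pullback.fst q i) this
  simp only [Category.assoc, τ', r] at this
  rw [pullback.lift_fst, pullback.lift_fst] at this
  exact this.symm

section Torsor

variable {P : Scheme.{u}} {Z : Type u} [Group Z] {G : Over P} [GrpObj G] (eG : G ≅ TwC.const P Z)
  (hG : TwC.IsConstGrp Z G eG) {X : Over P} (a : AlgGrp.Action G X)

/-- The constant point of a constant group. -/
abbrev cpt (T : Over P) (z : Z) : T ⟶ G := toUnit T ≫ TwC.pt P Z z ≫ eG.inv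

omit [Group Z] [GrpObj G] in
theorem comp_cpt {T T' : Over P} (h : T' ⟶ T) (z : Z) : h ≫ cpt eG T z = cpt eG T' z := by
  rw [cpt, ← Category.assoc, comp_toUnit]

include hG in
theorem cpt_mul (T : Over P) (m n : Z) : cpt eG T (m * n) = cpt eG T m * cpt eG T n := by
  rw [cpt, cpt, cpt, ← hG m n]
  exact MonObj.comp_mul _ _ _

include hG in
theorem cpt_one (T : Over P) : cpt eG T 1 = 1 := by
  have h := cpt_mul eG hG T 1 1
  rw [_root_.one_mul] at h
  exact mul_eq_left.mp h.symm

omit [Group Z] [GrpObj G] in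
theorem cpt_injective {T : Over P} [Nonempty T.left] {m n : Z} (h : cpt eG T m = cpt eG T n) : m = n := by
  obtain ⟨t⟩ := ‹Nonempty T.left›
  have h' := congrArg (fun g => g ≫ eG.hom) h
  simp only [cpt, Category.assoc, Iso.inv_hom_id, Category.comp_id] at h'
  have h'' := congrArg (fun g : T ⟶ TwC.const P Z => g.left t) h'
  have key : ∀ k : Z, (toUnit T ≫ TwC.pt P Z k).left t =
      sigmaMk (fun _ : Z => P) ⟨k, (toUnit T).left t⟩ := fun k => by
    rw [sigmaMk_mk]
    rfl
  rw [key, key] at h''
  exact congrArg Sigma.fst ((sigmaMk (fun _ : Z => P)).injective h'')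

theorem act_one {T : Over P} (x : T ⟶ X) : lift (1 : T ⟶ G) x ≫ a.act = x := by
  have h := congrArg (lift (toUnit T) x ≫ ·) a.one_act
  simp only [lift_whiskerRight_assoc] at h
  rw [Hom.one_def]
  exact h.trans (lift_leftUnitor_hom _ _)

theorem act_mul {T : Over P} (g h : T ⟶ G) (x : T ⟶ X) :
    lift (g * h) x ≫ a.act = lift g (lift h x ≫ a.act) ≫ a.act := by
  have e := congrArg (lift (lift g h) x ≫ ·) a.mul_act
  simp only [lift_whiskerRight_assoc, lift_lift_associator_hom_assoc, lift_whiskerLeft_assoc] at e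
  exact e

theorem act_unique (ha : NonAbH1.IsPseudoTorsorSch a) {T : Over P} (x : T ⟶ X) {g g' : T ⟶ G}
    (h : lift g x ≫ a.act = lift g' x ≫ a.act) : g = g' := by
  haveI : IsIso (lift a.act (snd G X)) := ha
  have : lift g x = lift g' x := by
    rw [← cancel_mono (lift a.act (snd G X))]
    refine CartesianMonoidalCategory.hom_ext _ _ ?_ ?_
    · simpa using h
    · simp
  simpa using congrArg (· ≫ fst G X) this

include hG in
/-- A torsor under a torsion-free constant group over a field is trivial. -/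
theorem exists_rational (hZ : ∀ z : Z, IsOfFinOrder z → z = 1) (ha : NonAbH1.IsPseudoTorsorSch a)
    [Etale X.hom] (w : X.left) :
    ∃ τ : Spec (P.residueField (X.hom w)) ⟶ X.left,
      τ ≫ X.hom = P.fromSpecResidueField (X.hom w) ∧ ∀ t, τ t = w := by
  let K : Type u := P.residueField (X.hom w)
  let L : Type u := X.left.residueField w
  letI : Algebra K L := (X.hom.residueFieldMap w).hom.toAlgebra
  haveI : Algebra.IsSeparable K L := inferInstanceAs (Algebra.IsSeparable
    (P.residueField (X.hom.base w)) (X.left.residueField w))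
  haveI : LocallyQuasiFinite X.hom := Groth.Agent.Unibranch.locallyQuasiFinite_of_etale X.hom
  haveI : Module.Finite K L :=
    Groth.Agent.EtaleSplit.finite_residueFieldMap X.hom w (X.hom.quasiFiniteAt w)
  let Ω : Type u := AlgebraicClosure K
  let ι₀ : L →ₐ[K] Ω := IsAlgClosed.lift
  let T : Over P := Over.mk (Spec.map (CommRingCat.ofHom (algebraMap K Ω)) ≫
    P.fromSpecResidueField (X.hom w))
  haveI : Subsingleton T.left := inferInstanceAs (Subsingleton (Spec (CommRingCat.of Ω)))
  haveI : Nonempty T.left := inferInstanceAs (Nonempty (Spec (CommRingCat.of Ω)))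
  let y : T ⟶ X := Over.homMk
    (Spec.map (CommRingCat.ofHom ι₀.toRingHom) ≫ X.left.fromSpecResidueField w)
    (by
      show (Spec.map (CommRingCat.ofHom ι₀.toRingHom) ≫ X.left.fromSpecResidueField w) ≫ X.hom =
        Spec.map (CommRingCat.ofHom (algebraMap K Ω)) ≫ P.fromSpecResidueField (X.hom w)
      rw [Category.assoc, ← Scheme.Hom.SpecMap_residueFieldMap_fromSpecResidueField, ← Category.assoc,
        ← Spec.map_comp]
      congr 2
      ext x
      exact ι₀.commutes x)
  let gal : (Ω ≃ₐ[K] Ω) → (T ⟶ T) := fun σ => Over.homMk (Spec.map (CommRingCat.ofHom σ.toAlgHom.toRingHom))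
    (by
      show Spec.map (CommRingCat.ofHom σ.toAlgHom.toRingHom) ≫
        Spec.map (CommRingCat.ofHom (algebraMap K Ω)) ≫ P.fromSpecResidueField (X.hom w) = _
      rw [← Category.assoc, ← Spec.map_comp]
      show _ = Spec.map (CommRingCat.ofHom (algebraMap K Ω)) ≫ P.fromSpecResidueField (X.hom w)
      congr 2
      ext x
      exact σ.commutes x)
  let Rel : (Ω ≃ₐ[K] Ω) → Z → Prop := fun σ z => gal σ ≫ y = lift (cpt eG T z) y ≫ a.act
  have hex : ∀ σ, ∃ z, Rel σ z := fun σ => by
    obtain ⟨g, hg⟩ := Groth.Agent.ConstTorsTriv.exists_act a ha y (gal σ ≫ y)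
    obtain ⟨z, hz⟩ := Groth.Agent.ConstTorsTriv.exists_const_of_subsingleton Z (g ≫ eG.hom)
    refine ⟨z, ?_⟩
    show _ = _
    rw [cpt, ← Category.assoc, ← hz, Category.assoc, eG.hom_inv_id, Category.comp_id, hg]
  have hgal : ∀ σ τ, gal (σ * τ) = gal σ ≫ gal τ := fun σ τ => by
    ext1
    show Spec.map (CommRingCat.ofHom (σ * τ).toAlgHom.toRingHom) =
      Spec.map (CommRingCat.ofHom σ.toAlgHom.toRingHom) ≫ Spec.map (CommRingCat.ofHom τ.toAlgHom.toRingHom)
    rw [← Spec.map_comp]
    rfl
  have hmul : ∀ σ τ m n, Rel σ m → Rel τ n → Rel (σ * τ) (n * m) := fun σ τ m n hm hn => by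
    show _ = _
    rw [hgal, Category.assoc, hn, ← Category.assoc, comp_lift, comp_cpt, hm, cpt_mul eG hG, act_mul]
  have hone : Rel 1 1 := by
    show _ = _
    rw [cpt_one eG hG, act_one]
    have : gal 1 = 𝟙 T := by
      ext1
      exact Spec.map_id _
    rw [this, Category.id_comp]
  have hpow : ∀ σ z, Rel σ z → ∀ n : ℕ, Rel (σ ^ n) (z ^ n) := fun σ z h n => by
    induction n with
    | zero => simpa using hone
    | succ n ih => rw [pow_succ, pow_succ' z]; exact hmul _ _ _ _ ih h
  have hfix : ∀ (σ : Ω ≃ₐ[K] Ω) (x : L), σ (ι₀ x) = ι₀ x := fun σ => by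
    obtain ⟨z, hz⟩ := hex σ
    obtain ⟨i, j, hij, hσ⟩ := Finite.exists_ne_map_eq_of_infinite
      (fun n : ℕ => ((σ ^ n : Ω ≃ₐ[K] Ω).toAlgHom.comp ι₀))
    wlog hlt : i < j generalizing i j
    · exact this j i hij.symm hσ.symm (by omega)
    have hper : ∀ x : L, (σ ^ (j - i)) (ι₀ x) = ι₀ x := fun x => (σ ^ i).injective (by
      rw [← AlgEquiv.mul_apply, ← pow_add, show i + (j - i) = j by omega]
      exact (AlgHom.congr_fun hσ x).symm)
    have h1 : Rel (σ ^ (j - i)) 1 := by
      show _ = _
      rw [cpt_one eG hG, act_one]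
      ext1
      show Spec.map (CommRingCat.ofHom (σ ^ (j - i)).toAlgHom.toRingHom) ≫
        Spec.map (CommRingCat.ofHom ι₀.toRingHom) ≫ _ = Spec.map (CommRingCat.ofHom ι₀.toRingHom) ≫ _
      rw [← Category.assoc, ← Spec.map_comp]
      congr 2
      ext x
      exact hper x
    have hzn : z ^ (j - i) = 1 := cpt_injective eG (act_unique a ha y
      ((hpow σ z hz (j - i)).symm.trans h1))
    have hz1 : z = 1 := hZ z (isOfFinOrder_iff_pow_eq_one.mpr ⟨j - i, by omega, hzn⟩)
    intro x
    have h2 : gal σ ≫ y = y := by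
      have := hz
      simp only [Rel, hz1, cpt_one eG hG, act_one] at this
      exact this
    have h3 := congrArg (fun m : T ⟶ X => m.left) h2
    simp only [gal, y, Over.comp_left, Over.homMk_left] at h3
    rw [← Category.assoc, ← Spec.map_comp, cancel_mono] at h3
    exact congrArg (fun φ => φ.hom x) (Spec.map_injective h3)
  haveI : Subsingleton (L →ₐ[K] Ω) := ⟨fun φ ψ => by
    suffices h : ∀ φ : L →ₐ[K] Ω, φ = ι₀ from (h φ).trans (h ψ).symm
    intro φ
    ext x
    have hc : IsConjRoot K (ι₀ x) (φ x) := by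
      show minpoly K (ι₀ x) = minpoly K (φ x)
      rw [minpoly.algHom_eq ι₀ ι₀.injective, minpoly.algHom_eq φ φ.injective]
    obtain ⟨σ, hσ⟩ := isConjRoot_iff_exists_algEquiv.mp hc.symm
    rw [← hσ, hfix]⟩
  have hrank : Module.finrank K L = 1 := by
    rw [← AlgHom.card K L Ω]
    exact le_antisymm (Fintype.card_le_one_iff_subsingleton.mpr inferInstance)
      (Fintype.card_pos_iff.mpr ⟨ι₀⟩)
  have hsurj : Function.Surjective (X.hom.residueFieldMap w).hom := fun x => by
    have h1 : (⊥ : Subalgebra K L) = ⊤ :=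
      (Subalgebra.bot_eq_top_iff_finrank_eq_one (F := K) (E := L)).mpr hrank
    exact (h1 ▸ Algebra.mem_top : x ∈ (⊥ : Subalgebra K L))
  haveI : IsIso (X.hom.residueFieldMap w) := by
    rw [ConcreteCategory.isIso_iff_bijective]
    exact ⟨(X.hom.residueFieldMap w).hom.injective, hsurj⟩
  refine ⟨Spec.map (inv (X.hom.residueFieldMap w)) ≫ X.left.fromSpecResidueField w, ?_,
    fun t => Scheme.fromSpecResidueField_apply w _⟩
  rw [Category.assoc, ← Scheme.Hom.SpecMap_residueFieldMap_fromSpecResidueField, ← Category.assoc,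
    ← Spec.map_comp, IsIso.hom_inv_id, Spec.map_id, Category.id_comp]

include hG in
/-- A torsor under a torsion-free constant group over a locally irreducible scheme is trivial, if
the torsor itself is locally irreducible. -/
theorem hasSection_of_locallyIrreducible (hZ : ∀ z : Z, IsOfFinOrder z → z = 1)
    (ha : NonAbH1.IsTorsorFor Scheme.fppfPrecoverage a)
    (hirr : ∀ e : X.left, ∃ U : Set X.left, IsOpen U ∧ e ∈ U ∧ IsIrreducible U) :
    NonAbH1.HasSectionOver X (𝟙 P) := by
  obtain ⟨_, _⟩ := Groth.Agent.ConstTorsTriv.etale_separated eG a ha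
  haveI : LocallyQuasiFinite X.hom := Groth.Agent.Unibranch.locallyQuasiFinite_of_etale X.hom
  let IsMax : P → Prop := fun ξ => ∀ ξ', ξ' ⤳ ξ → ξ' = ξ
  have hsurj : ∀ x : P, ∃ e : X.left, X.hom e = x := fun x => by
    obtain ⟨R, hR, hsec⟩ := ha.2
    have hR' := Scheme.fppfPrecoverage_le_fpqcPrecoverage _ hR
    have hs := ((Scheme.propQCPrecoverage_le_precoverage (P := @Flat)) _ hR').1
    obtain ⟨Y, g, hg, hx⟩ := hs x
    obtain ⟨hf⟩ := hg
    rename_i S' f
    obtain ⟨y, hy⟩ := hx
    obtain ⟨s, hs⟩ := hsec f hf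
    exact ⟨s y, by rw [← Scheme.Hom.comp_apply, hs]; exact hy⟩
  choose e₀ he₀ using hsurj
  have hsec : ∀ ξ : P, ∃ τ : Spec (P.residueField ξ) ⟶ X.left, τ ≫ X.hom = P.fromSpecResidueField ξ ∧
      ∀ t, τ t = e₀ ξ := fun ξ => by
    obtain ⟨τ, hτ, hτ'⟩ := exists_rational eG hG a hZ ha.1 (e₀ ξ)
    have hc : Spec.map (P.residueFieldCongr (he₀ ξ)).hom ≫ P.fromSpecResidueField (X.hom (e₀ ξ)) =
        P.fromSpecResidueField ξ := Scheme.residueFieldCongr_fromSpecResidueField (he₀ ξ)
    exact ⟨Spec.map (P.residueFieldCongr (he₀ ξ)).hom ≫ τ, by rw [Category.assoc, hτ, hc],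
      fun t => hτ' _⟩
  choose τ hτ hτ' using hsec
  have hmaxP : ∀ e : X.left, (∀ e', e' ⤳ e → e' = e) → IsMax (X.hom e) := fun e he ξ hξ => by
    obtain ⟨e', he', rfl⟩ := Flat.generalizingMap X.hom hξ
    rw [he e' he']
  have hmaxX : ∀ e : X.left, IsMax (X.hom e) → ∀ e', e' ⤳ e → e' = e := fun e he e' h => by
    have hq : X.hom e' = X.hom e := he _ (h.map X.hom.continuous)
    haveI := isDiscrete_iff_discreteTopology.mp (X.hom.isDiscrete_preimage_singleton (X.hom e))
    exact congrArg Subtype.val (specializes_iff_eq.mp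
      ((Topology.IsInducing.subtypeVal).specializes_iff (x := (⟨e', hq⟩ : ↥(X.hom ⁻¹' {X.hom e})))
        (y := ⟨e, rfl⟩) |>.mp h))
  let M : Set X.left := {w | IsMax (X.hom w) ∧ w = e₀ (X.hom w)}
  let U₀ : Set X.left := {e | ∃ w ∈ M, w ⤳ e}
  have hU₀ : IsOpen U₀ := isOpen_iff_forall_mem_open.mpr fun e ⟨w, hw, hwe⟩ => by
    obtain ⟨V, hVo, heV, hV⟩ := hirr e
    refine ⟨V, fun e' he' => ?_, hVo, heV⟩
    obtain ⟨ζ, hζ⟩ := QuasiSober.sober hV.closure isClosed_closure
    have h1 : ζ ⤳ w := hζ.specializes (subset_closure (hwe.mem_open hVo heV))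
    refine ⟨w, hw, ?_⟩
    rw [← hmaxX w hw.1 ζ h1]
    exact hζ.specializes (subset_closure he')
  let U : X.left.Opens := ⟨U₀, hU₀⟩
  let u := U.ι ≫ X.hom
  haveI : Surjective u := ⟨fun x => by
    obtain ⟨m, hm, hmax⟩ := Groth.Agent.Unibranch.exists_max_specializes (e₀ x)
    have hξ : IsMax (X.hom m) := hmaxP m hmax
    let T : Over P := Over.mk (X.left.fromSpecResidueField m ≫ X.hom)
    haveI : Subsingleton T.left := inferInstanceAs (Subsingleton (Spec (X.left.residueField m)))
    haveI : Nonempty T.left := inferInstanceAs (Nonempty (Spec (X.left.residueField m)))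
    let y₁ : T ⟶ X := Over.homMk (X.left.fromSpecResidueField m) rfl
    let y₂ : T ⟶ X := Over.homMk (Spec.map (X.hom.residueFieldMap m) ≫ τ (X.hom m))
      (by
        show (Spec.map (X.hom.residueFieldMap m) ≫ τ (X.hom m)) ≫ X.hom =
          X.left.fromSpecResidueField m ≫ X.hom
        rw [Category.assoc, hτ, Scheme.Hom.SpecMap_residueFieldMap_fromSpecResidueField])
    obtain ⟨g, hg⟩ := Groth.Agent.ConstTorsTriv.exists_act a ha.1 y₁ y₂
    obtain ⟨z, hz⟩ := Groth.Agent.ConstTorsTriv.exists_const_of_subsingleton Z (g ≫ eG.hom)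
    let Tz : X ⟶ X := lift (cpt eG X z) (𝟙 X) ≫ a.act
    have hy : y₁ ≫ Tz = y₂ := by
      rw [← hg, ← Category.assoc, comp_lift, comp_cpt, Category.comp_id, cpt, ← Category.assoc,
        ← hz, Category.assoc, eG.hom_inv_id, Category.comp_id]
    have hw : Tz.left m = e₀ (X.hom m) := by
      obtain ⟨t⟩ := ‹Nonempty T.left›
      have := congrArg (fun h : T ⟶ X => h.left t) hy
      simp only [y₁, y₂, Over.comp_left, Over.homMk_left, Scheme.Hom.comp_apply,
        hτ'] at this
      exact (congrArg Tz.left (Scheme.fromSpecResidueField_apply m t).symm).trans this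
    have hq : ∀ e, X.hom (Tz.left e) = X.hom e := fun e => by
      rw [← Scheme.Hom.comp_apply, Over.w]
    have hmem : Tz.left (e₀ x) ∈ U := ⟨Tz.left m, ⟨by rw [hq]; exact hξ, by rw [hq, hw]⟩,
      hm.map Tz.left.continuous⟩
    refine ⟨⟨_, hmem⟩, ?_⟩
    show X.hom (Tz.left (e₀ x)) = x
    rw [hq, he₀]⟩
  haveI : Etale u := inferInstance
  haveI : IsSeparated u := inferInstance
  haveI hdiag : Surjective (pullback.diagonal u) := ⟨fun d => by
    obtain ⟨d', hd, hmax⟩ := Groth.Agent.Unibranch.exists_max_specializes d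
    haveI : IsClosedImmersion (pullback.diagonal u) := inferInstance
    suffices d' ∈ Set.range (pullback.diagonal u) from
      hd.mem_closed (pullback.diagonal u).isClosedEmbedding.isClosed_range this
    have hmw : ∀ p : pullback u u ⟶ (U : Scheme.{u}), Flat p →
        IsMax (u (p d')) ∧ U.ι (p d') = e₀ (u (p d')) := by
      intro p hp
      obtain ⟨w, hw, hwe⟩ := (p d').2
      have hwU : w ∈ U := ⟨w, hw, specializes_rfl⟩
      have hs : (⟨w, hwU⟩ : U) ⤳ p d' := U.ι.isEmbedding.isInducing.specializes_iff.mp hwe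
      obtain ⟨d'', hd'', he''⟩ := Flat.generalizingMap p hs
      rw [hmax d'' hd''] at he''
      rw [he'']
      exact hw
    obtain ⟨hξ, h₁⟩ := hmw (pullback.fst u u) inferInstance
    obtain ⟨-, h₂⟩ := hmw (pullback.snd u u) inferInstance
    let g₁ := (pullback u u).fromSpecResidueField d' ≫ pullback.fst u u ≫ U.ι
    let g₂ := (pullback u u).fromSpecResidueField d' ≫ pullback.snd u u ≫ U.ι
    have hcond : g₁ ≫ X.hom = g₂ ≫ X.hom := by
      simp only [g₁, g₂, Category.assoc]
      rw [show U.ι ≫ X.hom = u from rfl, pullback.condition]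
    let ξ := u (pullback.fst u u d')
    have hξ' : u (pullback.snd u u d') = ξ := by
      simp only [ξ]
      rw [← Scheme.Hom.comp_apply, ← pullback.condition, Scheme.Hom.comp_apply]
    obtain ⟨s', φ, hφ⟩ : ∃ (s' : P) (φ : P.residueField s' ⟶ (pullback u u).residueField d'),
        Spec.map φ ≫ P.fromSpecResidueField s' = g₁ ≫ X.hom :=
      ⟨_, _, (P.SpecToEquivOfField ((pullback u u).residueField d')).left_inv (g₁ ≫ X.hom)⟩
    have hs' : s' = ξ := by
      obtain ⟨t⟩ := (inferInstance : Nonempty (Spec ((pullback u u).residueField d')))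
      have := congrArg (fun m => m t) hφ
      simpa [g₁, ξ, u] using this
    subst hs'
    have e₁ : g₁ = Spec.map φ ≫ τ (u (pullback.fst u u d')) :=
      eq_comp_of_image_eq X.hom _ (hτ _) g₁ _ hφ fun t' t => by
        rw [hτ']
        simp only [g₁, Scheme.Hom.comp_apply, Scheme.fromSpecResidueField_apply]
        exact h₁
    have e₂ : g₂ = Spec.map φ ≫ τ (u (pullback.fst u u d')) :=
      eq_comp_of_image_eq X.hom _ (hτ _) g₂ _ (hφ.trans hcond) fun t' t => by
        rw [hτ']
        simp only [g₂, Scheme.Hom.comp_apply, Scheme.fromSpecResidueField_apply]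
        rw [h₂, hξ']
    refine ⟨pullback.fst u u d', ?_⟩
    have heq : (pullback u u).fromSpecResidueField d' =
        ((pullback u u).fromSpecResidueField d' ≫ pullback.fst u u) ≫ pullback.diagonal u := by
      apply pullback.hom_ext
      · simp
      · simp only [Category.assoc, pullback.diagonal_snd, Category.comp_id]
        rw [← cancel_mono U.ι, Category.assoc, Category.assoc]
        exact (e₁.trans e₂.symm).symm
    obtain ⟨t⟩ := (inferInstance : Nonempty (Spec ((pullback u u).residueField d')))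
    have := congrArg (fun m => m t) heq
    simp only [Scheme.Hom.comp_apply, Scheme.fromSpecResidueField_apply] at this
    exact this.symm⟩
  haveI : UniversallyInjective u := (UniversallyInjective.iff_diagonal u).mpr hdiag
  haveI : Mono u := by
    rw [← pullback.isIso_diagonal_iff]
    exact (isIso_iff_isOpenImmersion_and_surjective _).mpr ⟨inferInstance, inferInstance⟩
  haveI : IsOpenImmersion u := IsOpenImmersion.of_flat_of_mono u
  haveI : IsIso u := (isIso_iff_isOpenImmersion_and_surjective _).mpr ⟨inferInstance, inferInstance⟩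
  exact ⟨inv u ≫ U.ι, by rw [Category.assoc]; exact IsIso.inv_hom_id u⟩

end Torsor

end Groth.Agent.UnibrTorsor
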