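import Mathlib
import Groth.Agent.Unibranch.Components
import Groth.Agent.GeomUniPoly.Scheme
import Groth.Agent.SteinConn.Unibranch

/-!
# Smooth schemes over geometrically unibranch irreducible schemes are locally irreducible
-/

set_option autoImplicit false
set_option linter.style.haveILetI false

universe u

open CategoryTheory CategoryTheory.Limits AlgebraicGeometry TopologicalSpace

noncomputable section

namespace Groth.Agent.UnibrTorsor

/-- Geometric unibranchness of stalks pulls back along open immersions. -/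
theorem isGeomUnibranch_stalk_of_isOpenImmersion {U X : Scheme.{u}} (j : U ⟶ X) [IsOpenImmersion j]
    (x : U) (h : CAlg2.IsGeomUnibranch (X.presheaf.stalk (j x))) :
    CAlg2.IsGeomUnibranch (U.presheaf.stalk x) :=
  Groth.Agent.SteinConn.isGeomUnibranch_of_ringEquiv (asIso (j.stalkMap x)).commRingCatIsoToRingEquiv h

/-- A point of a scheme smooth over a geometrically unibranch irreducible scheme has an irreducible
open neighbourhood. -/
theorem exists_irreducible_nhd {T S : Scheme.{u}} [IrreducibleSpace S]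
    (hS : ∀ s : S, CAlg2.IsGeomUnibranch (S.presheaf.stalk s)) (f : T ⟶ S) [Smooth f] (x : T) :
    ∃ U : Set T, IsOpen U ∧ x ∈ U ∧ IsIrreducible U := by
  obtain ⟨U, hU, V, hV, hxV, e, hsm⟩ := Smooth.exists_isStandardSmooth f x
  obtain ⟨n, g, -, hg⟩ := hsm.exists_etale_mvPolynomial
  haveI : Nonempty (U : Scheme.{u}) := ⟨⟨f x, e hxV⟩⟩
  haveI : IrreducibleSpace (U : Scheme.{u}) := by
    haveI : Nonempty ↥(U : Set S) := ⟨⟨f x, e hxV⟩⟩
    haveI : IsIrreducible (U : Set S) :=
      ⟨⟨f x, e hxV⟩, (PreirreducibleSpace.isPreirreducible_univ (X := S)).open_subset U.2 (Set.subset_univ _)⟩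
    exact (Subtype.irreducibleSpace this :)
  haveI : IrreducibleSpace (Spec Γ(S, U)) := by
    haveI : Nonempty (Spec Γ(S, U)) := ⟨hU.isoSpec.hom ⟨f x, e hxV⟩⟩
    haveI : PreirreducibleSpace (Spec Γ(S, U)) := ⟨by
      rw [← hU.isoSpec.hom.homeomorph.surjective.range_eq, ← Set.image_univ]
      exact (PreirreducibleSpace.isPreirreducible_univ (X := (U : Scheme.{u}))).image _
        hU.isoSpec.hom.homeomorph.continuous.continuousOn⟩
    constructor
    infer_instance
  have hA : ∀ s, CAlg2.IsGeomUnibranch ((Spec Γ(S, U)).presheaf.stalk s) := fun s =>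
    isGeomUnibranch_stalk_of_isOpenImmersion hU.fromSpec s (hS _)
  let N : Type u := ULift.{u} (Fin n)
  let r : MvPolynomial N Γ(S, U) →+* MvPolynomial (Fin n) Γ(S, U) :=
    (MvPolynomial.renameEquiv Γ(S, U) (Equiv.ulift : N ≃ Fin n)).toRingEquiv.toRingHom
  have hr : (g.comp r).Etale :=
    RingHom.Etale.stableUnderComposition _ _
      (RingHom.Etale.of_bijective (MvPolynomial.renameEquiv Γ(S, U) (Equiv.ulift : N ≃ Fin n)).bijective) hg
  let h : Spec Γ(T, V) ⟶ 𝔸(N; Spec Γ(S, U)) :=
    Spec.map (CommRingCat.ofHom (g.comp r)) ≫ (AffineSpace.SpecIso N Γ(S, U)).inv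
  haveI : Etale (Spec.map (CommRingCat.ofHom (g.comp r))) :=
    (HasRingHomProperty.Spec_iff (P := @Etale)).mpr hr
  haveI : Etale h := inferInstance
  have hY : ∀ y : ↥𝔸(N; Spec Γ(S, U)),
      CAlg2.IsGeomUnibranch ((𝔸(N; Spec Γ(S, U))).presheaf.stalk y) := fun y =>
    Groth.Agent.GeomUniPoly.isGeomUnibranch_affineSpace y (hA _)
  let t : Spec Γ(T, V) := hV.primeIdealOf ⟨x, hxV⟩
  have ht : hV.fromSpec t = x := hV.fromSpec_primeIdealOf ⟨x, hxV⟩
  obtain ⟨Z, ⟨hZ, htZ⟩, -⟩ := Groth.Agent.Unibranch.existsUnique_component h hY t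
  refine ⟨hV.fromSpec '' Z, ?_, ⟨t, htZ, ht⟩, hZ.1.image _ hV.fromSpec.continuous.continuousOn⟩
  exact hV.fromSpec.isOpenEmbedding.isOpenMap _ (Groth.Agent.Unibranch.isOpen_component h hY Z hZ).1

end Groth.Agent.UnibrTorsor
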